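import Groth.Agent.SurfJet43.Colength
import Groth.Agent.Posit43.BigNef
import Groth.Agent.Posit43.IntNum
import Groth.Agent.CurveCohLib.SmoothCurve

/-!
# The dimension count for divisors singular at given points
-/

set_option linter.style.haveILetI false
set_option linter.unusedSectionVars false
set_option backward.isDefEq.respectTransparency false
set_option backward.isDefEq.respectTransparency.types false

universe u

open CategoryTheory CategoryTheory.Limits AlgebraicGeometry TopologicalSpace Opposite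

attribute [local instance] HasDerivedCategory.standard

noncomputable section

namespace Groth.Agent.SurfJet43

open Groth.Agent HilbPoly VarGrow31

theorem dim_le_zero_of_finite {X : Type*} [TopologicalSpace X] {S : Set X} (hS : S.Finite)
    (hc : ∀ x ∈ S, IsClosed ({x} : Set X)) : topologicalKrullDim ↥S ≤ 0 := by
  haveI := hS.to_subtype
  haveI : T1Space ↥S := ⟨fun x => by
    have := (hc x.1 x.2).preimage (continuous_subtype_val : Continuous (Subtype.val : ↥S → X))
    convert! this
    ext y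
    simp [Subtype.ext_iff]⟩
  exact topologicalKrullDim_zero_of_discreteTopology ↥S

variable (k : Type u) [Field k] [IsAlgClosed k] {X : Scheme.{u}} [X.Over (Spec (CommRingCat.of k))]
  [IsProper (X ↘ Spec (CommRingCat.of k))] [Smooth (X ↘ Spec (CommRingCat.of k))]

/-- The sections lost at fat points. -/
theorem h0_le_fat (hdim : topologicalKrullDim X ≤ 2) {L : X.Modules} (hL : PicF.IsInvertible L)
    (Z : Finset X) (hZ : ∀ z ∈ Z, IsClosed ({z} : Set X)) (r m : ℕ) :
    2 * (Module.finrank k (Coh.HH X (CohB1.tensorPow L m) 0) : ℤ) ≤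
      2 * (Module.finrank k (Coh.HH X (CohB1.tensorMod (ClSub.idealMod (fatIdeal Z hZ r))
        (CohB1.tensorPow L m)) 0) : ℤ) + (Z.card : ℤ) * (r * (r + 1) : ℕ) := by
  haveI := CurveCohLib.isNoetherian_of_proper (k := k) (X := X)
  set J := fatIdeal Z hZ r
  have hS : (ShortComplex.mk (ClSub.idealModι J) (ClSub.toSubscheme J) (kernel.condition _)).ShortExact :=
    SurfInt.shortExact_ideal J
  have hq := SurfInt.isCoh_quotMod k J
  have hb := (twist_bounds k hL hS (SurfInt.isCoh_idealMod k J) QCoh.isCoh_structureModule' hq 0 m).1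
  have h2 : hd k L (Coh.structureModule X) 0 m = Module.finrank k (Coh.HH X (CohB1.tensorPow L m) 0) :=
    (CurveCohLib.hhEquiv (k := k) (CurveTensor.structureTensorIso _) 0).finrank_eq
  change hd k L (Coh.structureModule X) 0 m ≤ hd k L (ClSub.idealMod J) 0 m + hd k L (ClSub.quotMod J) 0 m at hb
  have hN := InvX.isInvertible_tensorPow hL m
  have hP : Coh.IsCoh (CohB1.tensorMod (ClSub.quotMod J) (CohB1.tensorPow L m)) :=
    AmpleVan.isCoh_tensor hq (AmpleVan.isCoh_invertible hN)
  have h3 : (hd k L (ClSub.quotMod J) 0 m : ℤ) = Curv2.euler k X (ClSub.quotMod J) := by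
    have hdim0 : topologicalKrullDim ↥(CohB1.support (ClSub.quotMod J)) ≤ 0 :=
      dim_le_zero_of_finite (Z.finite_toSet.subset (support_quot_fatIdeal Z hZ r))
        fun x hx => hZ x (support_quot_fatIdeal Z hZ r hx)
    have h1 := iterD_eq_zero 1 (additive_euler (X := X) k) [CohB1.tensorPow L m] rfl
      (fun N hN' => List.mem_singleton.1 hN' ▸ hN) _ hq (lt_succ_of_le hdim0)
    change Curv2.euler k X (CohB1.tensorMod (ClSub.quotMod J) (CohB1.tensorPow L m)) -
      Curv2.euler k X (ClSub.quotMod J) = 0 at h1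
    rw [CurveCohLib.euler_eq_finrank_zero (k := k) hP
      fun x hx => hZ x (support_quot_fatIdeal Z hZ r (support_tensor_subset _ _ hx))] at h1
    show (Module.finrank k (Coh.HH X (CohB1.tensorMod (ClSub.quotMod J) (CohB1.tensorPow L m)) 0) : ℤ) = _
    omega
  have h4 : 2 * Curv2.euler k X (ClSub.quotMod J) ≤ (Z.card : ℤ) * (r * (r + 1) : ℕ) :=
    two_mul_euler_fatIdeal_le Z hZ r k hdim
  have h5 : hd k L (ClSub.idealMod J) 0 m =
      Module.finrank k (Coh.HH X (CohB1.tensorMod (ClSub.idealMod J) (CohB1.tensorPow L m)) 0) := rfl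
  omega

/-- Many sections vanish to high order at few points. -/
theorem exists_section_fat (hdim : topologicalKrullDim X = 2) {L : X.Modules} (hL : CohB1.IsAmple L)
    (Z : Finset X) (hZ : ∀ z ∈ Z, IsClosed ({z} : Set X))
    (hsq : 4 * (Z.card : ℤ) < iterD (List.replicate 2 L) (Curv2.euler k X) (Coh.structureModule X)) :
    ∃ m₀ : ℕ, ∀ m : ℕ, m₀ ≤ m → Nontrivial (Coh.HH X (CohB1.tensorMod
      (ClSub.idealMod (fatIdeal Z hZ (2 * m + 1))) (CohB1.tensorPow L m)) 0) := by
  haveI := CurveCohLib.isNoetherian_of_proper (k := k) (X := X)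
  have hO := QCoh.isCoh_structureModule' (X := X)
  have hdim' : topologicalKrullDim X ≤ ((2 : ℕ) : WithBot ℕ∞) := hdim.le
  obtain ⟨P, hP, hPd, hPa⟩ := exists_poly (additive_euler k) hL.1 hO (SurfInt.dim_support_le hdim' _)
  let c : ℚ := (Z.card : ℚ)
  let Q : Polynomial ℚ := (2 : ℚ) • P - Polynomial.C c * (Polynomial.monomial 2 (4 : ℚ) +
    Polynomial.monomial 1 (6 : ℚ) + Polynomial.C 2)
  have hQd : Q.natDegree ≤ 2 := by
    refine (Polynomial.natDegree_sub_le _ _).trans (max_le ((Polynomial.natDegree_smul_le _ _).trans hPd) ?_)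
    refine (Polynomial.natDegree_C_mul_le _ _).trans ?_
    refine (Polynomial.natDegree_add_le _ _).trans (max_le ((Polynomial.natDegree_add_le _ _).trans
      (max_le (Polynomial.natDegree_monomial_le _) ((Polynomial.natDegree_monomial_le _).trans (by norm_num)))) ?_)
    simp
  have hQc : 0 < Q.coeff 2 := by
    have h : ((4 * (Z.card : ℤ) : ℤ) : ℚ) < StabCat.alpha 2 P := by rw [hPa]; exact Int.cast_lt.2 hsq
    rw [StabCat.alpha] at h
    simp only [Q, c, Polynomial.coeff_sub, Polynomial.coeff_smul, Polynomial.coeff_C_mul, Polynomial.coeff_add,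
      Polynomial.coeff_monomial, Polynomial.coeff_C, smul_eq_mul]
    norm_num [Nat.factorial] at h ⊢
    linarith
  obtain ⟨N, hN⟩ := eventually_pos hQd hQc
  obtain ⟨n₀, hn₀⟩ := (S0051.result k X (X ↘ Spec (CommRingCat.of k)) L hL.1).1 hL _ hO
  refine ⟨max N n₀, fun m hm => ?_⟩
  have h1 := hN m ((le_max_left _ _).trans hm)
  simp only [Q, c, Polynomial.eval_sub, Polynomial.eval_smul, Polynomial.eval_mul, Polynomial.eval_C,
    Polynomial.eval_add, Polynomial.eval_monomial, ← hP m, smul_eq_mul] at h1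
  have h2 : Curv2.euler k X (pw L (Coh.structureModule X) m) =
      (Module.finrank k (Coh.HH X (CohB1.tensorPow L m) 0) : ℤ) := by
    rw [Euler.euler_eq_sum k _ 1 (fun i hi => hn₀ m ((le_max_right _ _).trans hm) i (by omega)),
      Finset.sum_range_one, pow_zero, one_mul, Nat.cast_inj]
    exact (CurveCohLib.hhEquiv (k := k) (CurveTensor.structureTensorIso _) 0).finrank_eq
  rw [h2] at h1
  have h3 := h0_le_fat k hdim' hL.1 Z hZ (2 * m + 1) m
  have h4 : (0 : ℤ) < 2 * (Module.finrank k (Coh.HH X (CohB1.tensorPow L m) 0) : ℤ) -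
      (Z.card : ℤ) * (4 * (m : ℤ) ^ 2 + 6 * m + 2) := by
    have h1' : (0 : ℚ) < ((2 * (Module.finrank k (Coh.HH X (CohB1.tensorPow L m) 0) : ℤ) -
        (Z.card : ℤ) * (4 * (m : ℤ) ^ 2 + 6 * m + 2) : ℤ) : ℚ) := by
      push_cast at h1 ⊢
      linarith
    exact_mod_cast h1'
  refine Module.nontrivial_of_finrank_pos (R := k) ?_
  have h5 : ((((2 * m + 1) * (2 * m + 1 + 1)) : ℕ) : ℤ) = 4 * (m : ℤ) ^ 2 + 6 * m + 2 := by
    push_cast; ring
  rw [h5] at h3
  omega

end Groth.Agent.SurfJet43
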