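import Mathlib.RingTheory.LocalRing.MaximalIdeal.Basic
import Mathlib.RingTheory.Ideal.Operations
import Mathlib.LinearAlgebra.Dimension.Constructions
import Mathlib.LinearAlgebra.FiniteDimensional.Basic
import Mathlib.RingTheory.Ideal.Quotient.Operations
import Mathlib.RingTheory.RegularLocalRing.Defs
import Mathlib.Algebra.Module.SpanRank

/-!
# Colength of powers of a maximal ideal with two generators
-/

set_option linter.unusedSectionVars false
set_option linter.style.haveILetI false

universe u v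

namespace Groth.Agent.SurfJet43

variable (k : Type u) [Field k] {R : Type v} [CommRing R] [Algebra k R] [IsLocalRing R]

/-- The span of the monomials of degree `j` in two elements. -/
def monSpan (a b : R) (j : ℕ) : Submodule k R :=
  Submodule.span k (Set.range fun i : Fin (j + 1) => a ^ (i : ℕ) * b ^ (j - i))

variable {k}

theorem monomial_mem {a b : R} {i j : ℕ} (h : i ≤ j) : a ^ i * b ^ (j - i) ∈ monSpan k a b j :=
  Submodule.subset_span ⟨⟨i, Nat.lt_succ_of_le h⟩, rfl⟩

theorem mul_mem_monSpan {a b x c : R} (hc : c = a ∨ c = b) {j : ℕ} (hx : x ∈ monSpan k a b j) :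
    x * c ∈ monSpan k a b (j + 1) := by
  induction hx using Submodule.span_induction with
  | mem y hy =>
    obtain ⟨i, rfl⟩ := hy
    rcases hc with rfl | rfl
    · have := monomial_mem (k := k) (a := c) (b := b) (Nat.succ_le_succ (Nat.lt_succ_iff.1 i.2))
      convert! this using 1
      simp only [Nat.succ_sub_succ, pow_succ]
      ring
    · have := monomial_mem (k := k) (a := a) (b := c) ((Nat.lt_succ_iff.1 i.2).trans j.le_succ)
      convert! this using 1
      rw [Nat.succ_sub (Nat.lt_succ_iff.1 i.2), pow_succ]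
      ring
  | zero => rw [zero_mul]; exact zero_mem _
  | add y z _ _ hy hz => rw [add_mul]; exact add_mem hy hz
  | smul t y _ hy => rw [smul_mul_assoc]; exact Submodule.smul_mem _ t hy

variable {a b : R} (hm : IsLocalRing.maximalIdeal R = Ideal.span {a, b})
  (hres : ∀ r : R, ∃ c : k, r - algebraMap k R c ∈ IsLocalRing.maximalIdeal R)
include hm hres

theorem exists_mon (j : ℕ) : ∀ y ∈ IsLocalRing.maximalIdeal R ^ j,
    ∃ s ∈ monSpan k a b j, y - s ∈ IsLocalRing.maximalIdeal R ^ (j + 1) := by
  induction j with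
  | zero =>
    intro y _
    obtain ⟨c, hc⟩ := hres y
    refine ⟨algebraMap k R c, ?_, by simpa using hc⟩
    have := Submodule.smul_mem (monSpan k a b 0) c (monomial_mem (i := 0) (j := 0) le_rfl)
    simpa [Algebra.smul_def] using this
  | succ j ih =>
    intro y hy
    have hy' : y ∈ IsLocalRing.maximalIdeal R ^ j * IsLocalRing.maximalIdeal R := by rwa [← pow_succ]
    refine Submodule.mul_induction_on hy' (fun u hu v hv => ?_) ?_
    · obtain ⟨p, q, rfl⟩ : ∃ p q, p * a + q * b = v := Ideal.mem_span_pair.1 (hm ▸ hv)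
      have h1 : ∀ (p c : R), c = a ∨ c = b → ∃ s ∈ monSpan k a b (j + 1),
          u * (p * c) - s ∈ IsLocalRing.maximalIdeal R ^ (j + 1 + 1) := by
        intro p c hc
        obtain ⟨s, hs, hs'⟩ := ih (u * p) (Ideal.mul_mem_right p _ hu)
        have hcm : c ∈ IsLocalRing.maximalIdeal R := by
          rw [hm]; rcases hc with rfl | rfl <;> exact Ideal.subset_span (by simp)
        refine ⟨s * c, mul_mem_monSpan hc hs, ?_⟩
        rw [show u * (p * c) - s * c = (u * p - s) * c by ring, pow_succ]
        exact Ideal.mul_mem_mul hs' hcm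
      obtain ⟨s₁, h₁, h₁'⟩ := h1 p a (Or.inl rfl)
      obtain ⟨s₂, h₂, h₂'⟩ := h1 q b (Or.inr rfl)
      refine ⟨s₁ + s₂, add_mem h₁ h₂, ?_⟩
      rw [show u * (p * a + q * b) - (s₁ + s₂) = (u * (p * a) - s₁) + (u * (q * b) - s₂) by ring]
      exact add_mem h₁' h₂'
    · rintro y z ⟨s, hs, hs'⟩ ⟨t, ht, ht'⟩
      refine ⟨s + t, add_mem hs ht, ?_⟩
      rw [show y + z - (s + t) = (y - s) + (z - t) by ring]
      exact add_mem hs' ht'

theorem exists_low (r : ℕ) (y : R) : ∃ s ∈ Submodule.span k
    (Set.range fun p : (Σ j : Fin r, Fin ((j : ℕ) + 1)) => a ^ (p.2 : ℕ) * b ^ ((p.1 : ℕ) - p.2)),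
    y - s ∈ IsLocalRing.maximalIdeal R ^ r := by
  induction r with
  | zero => exact ⟨0, zero_mem _, by simp⟩
  | succ r ih =>
    obtain ⟨s, hs, hs'⟩ := ih
    obtain ⟨t, ht, ht'⟩ := exists_mon hm hres r _ hs'
    refine ⟨s + t, add_mem (Submodule.span_mono ?_ hs) (Submodule.span_mono ?_ ht), by rwa [sub_sub] at ht'⟩
    · rintro _ ⟨p, rfl⟩
      exact ⟨⟨p.1.castSucc, p.2⟩, rfl⟩
    · rintro _ ⟨i, rfl⟩
      exact ⟨⟨Fin.last r, i⟩, rfl⟩

/-- A module generated by one element killed by `m^r` has dimension at most `r(r+1)/2`. -/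
theorem two_mul_finrank_le {M : Type v} [AddCommGroup M] [Module R M] [Module k M] [IsScalarTower k R M]
    {q₀ : M} (hgen : ∀ q : M, ∃ c : R, q = c • q₀) {r : ℕ}
    (hkill : ∀ c ∈ IsLocalRing.maximalIdeal R ^ r, c • q₀ = 0) :
    Module.Finite k M ∧ 2 * Module.finrank k M ≤ r * (r + 1) := by
  let f : R →ₗ[k] M := ((LinearMap.toSpanSingleton R M q₀).restrictScalars k)
  let v : (Σ j : Fin r, Fin ((j : ℕ) + 1)) → M := fun p => (a ^ (p.2 : ℕ) * b ^ ((p.1 : ℕ) - p.2)) • q₀
  have htop : Submodule.span k (Set.range v) = ⊤ := by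
    refine eq_top_iff.2 fun q _ => ?_
    obtain ⟨c, rfl⟩ := hgen q
    obtain ⟨s, hs, hs'⟩ := exists_low hm hres r c
    have h0 : c • q₀ = f s := by
      have := hkill _ hs'
      rw [sub_smul, sub_eq_zero] at this
      exact this
    rw [h0]
    have hmap := Submodule.mem_map_of_mem (f := f) hs
    rw [Submodule.map_span, ← Set.range_comp] at hmap
    exact hmap
  classical
  haveI : Module.Finite k M := ⟨⟨Finset.univ.image v, by
    rw [Finset.coe_image, Finset.coe_univ, Set.image_univ, htop]⟩⟩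
  refine ⟨inferInstance, ?_⟩
  have h1 := finrank_range_le_card (R := k) v
  rw [Set.finrank, htop, finrank_top, Fintype.card_sigma] at h1
  have h2 : ∑ j : Fin r, Fintype.card (Fin ((j : ℕ) + 1)) = ∑ j ∈ Finset.range (r + 1), j := by
    simp only [Fintype.card_fin]
    rw [Fin.sum_univ_eq_sum_range (fun j => j + 1), Finset.sum_range_succ']
    simp
  rw [h2] at h1
  have h3 := Finset.sum_range_id_mul_two (r + 1)
  rw [Nat.add_sub_cancel] at h3
  have h4 := Nat.mul_le_mul_right 2 h1
  rw [h3] at h4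
  linarith [mul_comm (r + 1) r]

omit hm hres in
/-- The maximal ideal of a regular local ring of dimension at most two has two generators. -/
theorem exists_two_generators {S : Type v} [CommRing S] [IsRegularLocalRing S] (h : ringKrullDim S ≤ 2) :
    ∃ a b : S, IsLocalRing.maximalIdeal S = Ideal.span {a, b} := by
  classical
  have hfg : (IsLocalRing.maximalIdeal S).FG := IsNoetherian.noetherian _
  obtain ⟨s, hcard, hs⟩ := Submodule.FG.exists_span_finset_card_eq_spanFinrank hfg
  have h2 : s.card ≤ 2 := by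
    have := (IsRegularLocalRing.spanFinrank_maximalIdeal (R := S)).le.trans h
    rw [← hcard] at this
    exact_mod_cast this
  change Ideal.span (s : Set S) = _ at hs
  rcases (show s.card = 0 ∨ s.card = 1 ∨ s.card = 2 by omega) with h0 | h1 | h2'
  · refine ⟨0, 0, ?_⟩
    rw [← hs, Finset.card_eq_zero.1 h0]
    simp
  · obtain ⟨x, rfl⟩ := Finset.card_eq_one.1 h1
    exact ⟨x, x, by rw [← hs]; simp⟩
  · obtain ⟨x, y, -, rfl⟩ := Finset.card_eq_two.1 h2'
    exact ⟨x, y, by rw [← hs]; simp⟩

end Groth.Agent.SurfJet43
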