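import Groth.Agent.SurfJet43.Algebra
import Groth.Agent.SurfInt.Curves
import Groth.Agent.CurveCohLib.SubBundle
import Groth.Agent.CurveCohLib.Skyscraper
import Groth.Agent.Lib.CurvePoint
import Groth.Prelude.Def_W4c2seshadriposJets

/-!
# Colength of intersections of powers of points on a smooth surface
-/

set_option linter.style.haveILetI false
set_option linter.unusedSectionVars false
set_option backward.isDefEq.respectTransparency false
set_option backward.isDefEq.respectTransparency.types false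

universe u

open CategoryTheory CategoryTheory.Limits AlgebraicGeometry TopologicalSpace Opposite

noncomputable section

namespace Groth.Agent.SurfJet43

open Groth.Agent

variable {X : Scheme.{u}}

/-- Sections of the ideal act as zero on the quotient. -/
theorem smul_stalk_eq_zero (J : X.IdealSheafData) {W : X.Opens} (hW : IsAffineOpen W) {f : Γ(X, W)}
    (hf : f ∈ J.ideal ⟨W, hW⟩) {x : X} (hxW : x ∈ W) (q : (ClSub.quotMod J).presheaf.stalk x) :
    X.presheaf.germ W x hxW f • q = 0 := by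
  obtain ⟨U, hxU, s, rfl⟩ := TopCat.Presheaf.exists_germ_eq (ClSub.quotMod J).presheaf q
  obtain ⟨_, ⟨V, hV, rfl⟩, hxV, hVle⟩ :=
    X.isBasis_affineOpens.exists_subset_of_mem_open (show x ∈ W ⊓ U from ⟨hxW, hxU⟩) (W ⊓ U).2
  have hVW : V ≤ W := fun y hy => (hVle hy).1
  have hVU : V ≤ U := fun y hy => (hVle hy).2
  rw [← X.presheaf.germ_res_apply (homOfLE hVW) x hxV f,
    ← (ClSub.quotMod J).presheaf.germ_res_apply (homOfLE hVU) x hxV s]
  set f' := X.presheaf.map (homOfLE hVW).op f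
  set s' := (ClSub.quotMod J).presheaf.map (homOfLE hVU).op s
  have hf' : f' ∈ J.ideal ⟨V, hV⟩ :=
    J.ideal_le_comap_ideal (U := ⟨V, hV⟩) (V := ⟨W, hW⟩) hVW hf
  have h0 : J.subschemeι.app V f' = 0 := by
    rw [← RingHom.mem_ker]
    exact (J.ker_subschemeι_app ⟨V, hV⟩).ge hf'
  have h2 : (f' • s' : Γ(ClSub.quotMod J, V)) = 0 := by
    show (J.subschemeι.app V f' * (show Γ(J.subscheme, J.subschemeι ⁻¹ᵁ V) from s') :
      Γ(J.subscheme, J.subschemeι ⁻¹ᵁ V)) = _
    rw [h0, zero_mul]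
  refine (QCoh.germ_smul' (ClSub.quotMod J) hxV f' s').symm.trans ?_
  rw [h2, map_zero]

theorem pointIdeal_ideal_of_notMem {z : X} (hz : IsClosed ({z} : Set X)) (W : X.affineOpens)
    (h : z ∉ (W : X.Opens)) : (W4c2seshadripos.pointIdeal z hz).ideal W = ⊤ := by
  rw [W4c2seshadripos.pointIdeal, Scheme.IdealSheafData.vanishingIdeal_ideal]
  have : W.2.fromSpec ⁻¹' ({z} : Set X) = ∅ := Set.eq_empty_iff_forall_notMem.2 fun P hP => h (by
    have hP' : W.2.fromSpec P = z := hP
    rw [← hP']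
    exact (W.2.range_fromSpec ▸ Set.mem_range_self P :))
  exact (congrArg PrimeSpectrum.vanishingIdeal this).trans PrimeSpectrum.vanishingIdeal_empty

theorem map_pointIdeal {z : X} (hz : IsClosed ({z} : Set X)) (W : X.affineOpens) (hzW : z ∈ (W : X.Opens)) :
    ((W4c2seshadripos.pointIdeal z hz).ideal W).map (X.presheaf.germ W z hzW).hom =
      IsLocalRing.maximalIdeal (X.presheaf.stalk z) := by
  rw [W4c2seshadripos.pointIdeal, Scheme.IdealSheafData.vanishingIdeal_ideal]
  have hset : W.2.fromSpec ⁻¹' ({z} : Set X) = {W.2.primeIdealOf ⟨z, hzW⟩} := by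
    ext P
    constructor
    · intro hP
      refine W.2.fromSpec.isOpenEmbedding.injective ?_
      rw [W.2.fromSpec_primeIdealOf]
      exact hP
    · rintro rfl
      exact W.2.fromSpec_primeIdealOf ⟨z, hzW⟩
  refine (congrArg (Ideal.map (X.presheaf.germ W z hzW).hom)
    ((congrArg PrimeSpectrum.vanishingIdeal hset).trans (PrimeSpectrum.vanishingIdeal_singleton _))).trans ?_
  letI := TopCat.Presheaf.algebra_section_stalk X.presheaf (⟨z, hzW⟩ : (W : X.Opens))
  haveI := W.2.isLocalization_stalk ⟨z, hzW⟩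
  exact IsLocalization.AtPrime.map_eq_maximalIdeal (W.2.primeIdealOf ⟨z, hzW⟩).asIdeal
    (X.presheaf.stalk z)

section Inf

variable (Z : Finset X) (hZ : ∀ z ∈ Z, IsClosed ({z} : Set X)) (r : ℕ)

/-- The intersection of the `r`-th powers of the points. -/
def fatIdeal : X.IdealSheafData := ⨅ z : ↥Z, (W4c2seshadripos.pointIdeal (z : X) (hZ z z.2)) ^ r

include hZ in
theorem exists_affine_avoid {x : X} :
    ∃ W : X.affineOpens, x ∈ (W : X.Opens) ∧ ∀ z ∈ Z, z ≠ x → z ∉ (W : X.Opens) := by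
  classical
  have hC : IsClosed ((Z.erase x : Finset X) : Set X) := by
    rw [← Set.biUnion_of_singleton ((Z.erase x : Finset X) : Set X)]
    exact (Finset.finite_toSet _).isClosed_biUnion fun z hz => hZ z (Finset.mem_of_mem_erase hz)
  obtain ⟨_, ⟨W, hW, rfl⟩, hxW, hWle⟩ := X.isBasis_affineOpens.exists_subset_of_mem_open
    (show x ∈ ((Z.erase x : Finset X) : Set X)ᶜ from fun h => Finset.notMem_erase x Z h) hC.isOpen_compl
  exact ⟨⟨W, hW⟩, hxW, fun z hz hne hzW => hWle hzW (Finset.mem_coe.2 (Finset.mem_erase.2 ⟨hne, hz⟩))⟩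

theorem mem_fatIdeal_ideal {W : X.affineOpens} {f : Γ(X, W)}
    (h : ∀ (z : X) (hz : z ∈ Z), z ∈ (W : X.Opens) → f ∈ (W4c2seshadripos.pointIdeal z (hZ z hz)).ideal W ^ r) :
    f ∈ (fatIdeal Z hZ r).ideal W := by
  rw [fatIdeal, Scheme.IdealSheafData.ideal_iInf, iInf_apply, Submodule.mem_iInf]
  intro z
  rw [Scheme.IdealSheafData.ideal_pow, Pi.pow_apply]
  by_cases hzW : (z : X) ∈ (W : X.Opens)
  · exact h z z.2 hzW
  · rw [pointIdeal_ideal_of_notMem _ W hzW, Ideal.top_pow]
    exact Submodule.mem_top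

theorem support_fatIdeal : ((fatIdeal Z hZ r).support : Set X) ⊆ (Z : Set X) := by
  intro x hx
  by_contra hxZ
  obtain ⟨W, hxW, hW⟩ := exists_affine_avoid Z hZ (x := x)
  have h1 : (1 : Γ(X, W)) ∈ (fatIdeal Z hZ r).ideal W := mem_fatIdeal_ideal Z hZ r fun z hz hzW =>
    absurd hzW (hW z hz fun h => hxZ (h ▸ hz))
  have h2 := ((fatIdeal Z hZ r).coe_support_inter W).le ⟨hx, hxW⟩
  refine (X.mem_zeroLocus_iff _ _).1 h2.1 1 h1 ?_
  rw [X.basicOpen_of_isUnit isUnit_one]
  exact hxW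

theorem support_quot_fatIdeal : CohB1.support (ClSub.quotMod (fatIdeal Z hZ r)) ⊆ (Z : Set X) :=
  fun _ hx => support_fatIdeal Z hZ r (not_not.1 fun h => hx (ParShLib.subsingleton_stalk_quotMod _ h))

theorem kill_stalk {z : X} (hz : z ∈ Z) {c : X.presheaf.stalk z}
    (hc : c ∈ IsLocalRing.maximalIdeal (X.presheaf.stalk z) ^ r)
    (q : (ClSub.quotMod (fatIdeal Z hZ r)).presheaf.stalk z) : c • q = 0 := by
  obtain ⟨W, hzW, hW⟩ := exists_affine_avoid Z hZ (x := z)
  rw [← map_pointIdeal (hZ z hz) W hzW, ← Ideal.map_pow] at hc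
  refine Submodule.span_induction (p := fun c _ => c • q = 0) ?_ (zero_smul _ q)
    (fun u v _ _ hu hv => by rw [add_smul, hu, hv, add_zero])
    (fun t u _ hu => by rw [smul_assoc, hu, smul_zero]) hc
  rintro _ ⟨f, hf, rfl⟩
  refine smul_stalk_eq_zero _ W.2 (mem_fatIdeal_ideal Z hZ r fun w hw hwW => ?_) hzW q
  obtain rfl : w = z := by
    by_contra hne
    exact hW w hw hne hwW
  exact hf

variable (k : Type u) [Field k] [IsAlgClosed k] [X.Over (Spec (CommRingCat.of k))]
  [IsProper (X ↘ Spec (CommRingCat.of k))] [Smooth (X ↘ Spec (CommRingCat.of k))]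

/-- The colength of the fat points. -/
theorem two_mul_euler_fatIdeal_le (hdim : topologicalKrullDim X ≤ 2) :
    2 * Curv2.euler k X (ClSub.quotMod (fatIdeal Z hZ r)) ≤ (Z.card : ℤ) * (r * (r + 1) : ℕ) := by
  classical
  haveI := CurveCohLib.isNoetherian_of_proper (k := k) (X := X)
  let Q := ClSub.quotMod (fatIdeal Z hZ r)
  obtain ⟨h, -⟩ := CurveCohLib.euler_eq_sum_stalks (k := k) (ParShLib.isCoh_quotMod (fatIdeal Z hZ r))
    (fun x hx => hZ x (support_quot_fatIdeal Z hZ r hx)) Z (support_quot_fatIdeal Z hZ r)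
  rw [h, Finset.mul_sum]
  refine (Finset.sum_le_card_nsmul Z _ ((r * (r + 1) : ℕ) : ℤ) fun z hz => ?_).trans_eq (nsmul_eq_mul _ _)
  letI := CurveCohLib.stalkModuleK k Q z
  letI : Algebra k (X.presheaf.stalk z) := (Curv2.stalkMap k X z).toAlgebra
  haveI : IsScalarTower k (X.presheaf.stalk z) (Q.presheaf.stalk z) :=
    IsScalarTower.of_algebraMap_smul fun _ _ => rfl
  haveI := SurfInt.isRegular_of_smooth k (X := X) z
  obtain ⟨a, b, hab⟩ := exists_two_generators
    ((CurveCohLib.ringKrullDim_stalk_le_topologicalKrullDim z).trans hdim)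
  obtain ⟨q₀, hq₀⟩ := ParShLib.exists_germ_smul (fatIdeal Z hZ r) z
  have h2 := (two_mul_finrank_le (k := k) (M := Q.presheaf.stalk z) hab
    (fun c => CurveSection.exists_stalkMap_sub_mem k (hZ z hz) c) hq₀
    (fun c hc => kill_stalk Z hZ r hz hc q₀)).2
  exact_mod_cast h2

end Inf

end Groth.Agent.SurfJet43
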